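import Cfsg.Agent.Lib.Compute.Leech.Words

/-!
# Certified permutation images of subgroups of `Co0`

Points are lattice vectors (coordinate lists) or unordered pairs of them; generators are words.
-/

set_option autoImplicit false

namespace Cfsg.Agent.Lib.Compute.Leech

open Cfsg
open scoped Pointwise

/-- An injective key of a coordinate list with entries in `-16..15`. -/
def keyOf : List ℤ → ℕ
  | [] => 1
  | a :: as => 32 * keyOf as + (a + 16).toNat % 32

/-- The coordinate list with a given key. -/
noncomputable def decodeVec (k : ℕ) : List ℤ :=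
  (List.range 24).map fun i => Int.subNatNat (getP 5 k i) 16

/-- The vector with a coordinate list, if it is in the lattice. -/
noncomputable def latOf (v : List ℤ) : leechLattice :=
  if h : Lib.Leech.leechChk (vecOf v) = true then ⟨vecOf v, Lib.Leech.leechChk_sound h⟩ else 0

theorem coe_latOf {v : List ℤ} (h : Lib.Leech.leechChk (vecOf v) = true) :
    ((latOf v : leechLattice) : GolayPt → ℤ) = vecOf v := by rw [latOf, dif_pos h]

/-- Check of one point. -/
noncomputable def pointOK (v : List ℤ) : Bool :=
  Nat.beq v.length 24 && Lib.Leech.leechChk (vecOf v)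

theorem latOf_injOn {u v : List ℤ} (hu : pointOK u = true) (hv : pointOK v = true)
    (h : latOf u = latOf v) : u = v := by
  simp only [pointOK, Bool.and_eq_true] at hu hv
  refine vecOf_injective (Nat.eq_of_beq_eq_true hu.1) (Nat.eq_of_beq_eq_true hv.1) ?_
  rw [← coe_latOf hu.2, ← coe_latOf hv.2, h]

/-- Word `w` fixes the vectors `fixed`. -/
noncomputable def fixesAll (w : List Letter) (fixed : List (List ℤ)) : Bool :=
  fixed.all fun v => listEq (evalWord w v) v

/-- Word `i` acts on the points by code `i`. -/
noncomputable def actsVec (b : ℕ) (L : List (List ℤ)) (w : List Letter) (c : ℕ) : Bool :=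
  (List.range L.length).all fun j =>
    forceNat (getP b c j) fun k => Nat.blt k L.length && listEq (evalWord w (L.getD j [])) (L.getD k [])

/-- The same for pairs; each pair may be turned round. -/
noncomputable def actsPair (b : ℕ) (L : List (List ℤ × List ℤ)) (w : List Letter) (c : ℕ) : Bool :=
  (List.range L.length).all fun j =>
    forceNat (getP b c j) fun k => Nat.blt k L.length &&
      ((listEq (evalWord w (L.getD j ([], [])).1) (L.getD k ([], [])).1 &&
          listEq (evalWord w (L.getD j ([], [])).2) (L.getD k ([], [])).2) ||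
        (listEq (evalWord w (L.getD j ([], [])).1) (L.getD k ([], [])).2 &&
          listEq (evalWord w (L.getD j ([], [])).2) (L.getD k ([], [])).1))

theorem injective_of_increasing {α : Type*} {n : ℕ} {f : Fin n → α} (key : α → ℕ) (g : ℕ → ℕ)
    (hg : ∀ i : Fin n, key (f i) = g i) (h : increasing ((List.range n).map g) = true) :
    Function.Injective f := by
  have hpw : ((List.range n).map g).Pairwise (· < ·) := by
    generalize (List.range n).map g = xs at h
    rw [← List.isChain_iff_pairwise]
    induction xs with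
    | nil => simp
    | cons a xs ih =>
      cases xs with
      | nil => simp
      | cons b xs =>
        simp only [increasing, Bool.and_eq_true] at h
        exact List.isChain_cons_cons.2 ⟨by simpa [Nat.blt_eq] using h.1, ih h.2⟩
  intro i j hij
  have hk : g i = g j := by rw [← hg, ← hg, hij]
  exact Fin.ext (List.inj_on_of_nodup_map hpw.nodup (List.mem_range.2 i.isLt)
    (List.mem_range.2 j.isLt) hk)

/-- Certified image for an action on vectors. -/
theorem mulEquiv_of_vectors {b n : ℕ} (hb : n ≤ 2 ^ b) (H : Subgroup Co0) [Finite H]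
    (L : List (List ℤ)) (hn : L.length = n) (fixed : List (List ℤ)) (W : List (List Letter))
    (S : List (ℕ × ℕ))
    (hH : ∀ g : Co0, (∀ v ∈ fixed, ∀ y : leechLattice, (y : GolayPt → ℤ) = vecOf v → g • y = y) →
      g ∈ H)
    (hS : GensOK (permCoding b (Equiv.refl (Fin n)) hb) S)
    (hpt : L.all pointOK = true)
    (hkey : increasing ((List.range n).map fun i => keyOf (L.getD i [])) = true)
    (hW : (W.all fun w => w.all letterOK && fixesAll w fixed) = true)
    (hlen : W.length = S.length)
    (hact : ((List.range W.length).all fun i => actsVec b L (W.getD i []) (S.getD i (0, 0)).1) = true)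
    (hcard : Nat.card H = Nat.card (genGroup (permCoding b (Equiv.refl (Fin n)) hb) S)) :
    Nonempty (H ≃* genGroup (permCoding b (Equiv.refl (Fin n)) hb) S) := by
  subst hn
  have hWi : ∀ i : Fin W.length, (W.get i).all letterOK = true ∧ fixesAll (W.get i) fixed = true := by
    intro i
    have := List.all_eq_true.1 hW _ (List.get_mem _ i)
    simpa [Bool.and_eq_true] using this
  choose g hg using fun i : Fin W.length => exists_of_wordOK (hWi i).1
  have hpok : ∀ j : Fin L.length, pointOK (L.getD j []) = true := fun j => by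
    rw [List.getD_eq_getElem _ _ j.isLt]
    exact List.all_eq_true.1 hpt _ (List.getElem_mem _)
  refine nonempty_mulEquiv_genGroup hb H (fun j : Fin L.length => latOf (L.getD j [])) ?_
    (List.ofFn g) ?_ hS ?_ hcard
  · intro i j hij
    have := injective_of_increasing keyOf (fun i => keyOf (L.getD i []))
      (f := fun j : Fin L.length => L.getD j []) (fun _ => rfl) hkey
    exact this (latOf_injOn (hpok i) (hpok j) hij)
  · intro x hx
    obtain ⟨i, rfl⟩ := List.mem_ofFn.1 hx
    refine hH _ fun v hv y hy => Subtype.ext ?_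
    rw [hg i v y hy, listEq_eq (List.all_eq_true.1 (hWi i).2 v hv), hy]
  · refine ⟨by rw [List.length_ofFn, hlen], fun i x p hx hp j => ?_⟩
    obtain ⟨hi, rfl⟩ := List.getElem?_eq_some_iff.1 hx
    rw [List.length_ofFn] at hi
    have := List.all_eq_true.1 (List.all_eq_true.1 hact i (List.mem_range.2 hi)) j
      (List.mem_range.2 j.isLt)
    obtain ⟨hiS, hp'⟩ := List.getElem?_eq_some_iff.1 hp
    rw [forceNat_eq, List.getD_eq_getElem _ _ hiS, hp', List.getD_eq_getElem _ _ hi,
      Bool.and_eq_true] at this
    have hlt : getP b p.1 j < L.length := by simpa [Nat.blt_eq] using this.1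
    refine ⟨hlt, Subtype.ext ?_⟩
    rw [List.getElem_ofFn,
      coe_latOf (v := L.getD (getP b p.1 j) []) (Bool.and_eq_true_iff.1 (hpok ⟨_, hlt⟩)).2,
      hg ⟨i, hi⟩ _ _ (coe_latOf (Bool.and_eq_true_iff.1 (hpok j)).2)]
    exact congrArg vecOf (listEq_eq this.2)

/-- Certified image for an action on unordered pairs. -/
theorem mulEquiv_of_pairs {b n : ℕ} (hb : n ≤ 2 ^ b) (H : Subgroup Co0) [Finite H]
    (L : List (List ℤ × List ℤ)) (hn : L.length = n) (fixed : List (List ℤ)) (W : List (List Letter))
    (S : List (ℕ × ℕ))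
    (hH : ∀ g : Co0, (∀ v ∈ fixed, ∀ y : leechLattice, (y : GolayPt → ℤ) = vecOf v → g • y = y) →
      g ∈ H)
    (hS : GensOK (permCoding b (Equiv.refl (Fin n)) hb) S)
    (hpt : (L.all fun p => pointOK p.1 && pointOK p.2 && Nat.blt (keyOf p.1) (keyOf p.2)) = true)
    (hkey : increasing ((List.range n).map fun i => keyOf (L.getD i ([], [])).1) = true)
    (hW : (W.all fun w => w.all letterOK && fixesAll w fixed) = true)
    (hlen : W.length = S.length)
    (hact : ((List.range W.length).all fun i => actsPair b L (W.getD i []) (S.getD i (0, 0)).1) = true)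
    (hcard : Nat.card H = Nat.card (genGroup (permCoding b (Equiv.refl (Fin n)) hb) S)) :
    Nonempty (H ≃* genGroup (permCoding b (Equiv.refl (Fin n)) hb) S) := by
  subst hn
  have hWi : ∀ i : Fin W.length, (W.get i).all letterOK = true ∧ fixesAll (W.get i) fixed = true := by
    intro i
    have := List.all_eq_true.1 hW _ (List.get_mem _ i)
    simpa [Bool.and_eq_true] using this
  choose g hg using fun i : Fin W.length => exists_of_wordOK (hWi i).1
  have hpok : ∀ j : Fin L.length, (pointOK (L.getD j ([], [])).1 = true ∧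
      pointOK (L.getD j ([], [])).2 = true) ∧
      keyOf (L.getD j ([], [])).1 < keyOf (L.getD j ([], [])).2 := fun j => by
    rw [List.getD_eq_getElem _ _ j.isLt]
    have := List.all_eq_true.1 hpt _ (List.getElem_mem j.isLt)
    simpa [Bool.and_eq_true, Nat.blt_eq] using this
  refine nonempty_mulEquiv_genGroup hb H (fun j : Fin L.length =>
      ({latOf (L.getD j ([], [])).1, latOf (L.getD j ([], [])).2} : Set leechLattice)) ?_
    (List.ofFn g) ?_ hS ?_ hcard
  · intro i j hij
    have hinj := injective_of_increasing keyOf (fun i => keyOf (L.getD i ([], [])).1)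
      (f := fun j : Fin L.length => (L.getD j ([], [])).1) (fun _ => rfl) hkey
    refine hinj ?_
    rcases Set.pair_eq_pair_iff.1 hij with ⟨h1, -⟩ | ⟨h1, h2⟩
    · exact latOf_injOn (hpok i).1.1 (hpok j).1.1 h1
    · have e1 := latOf_injOn (hpok i).1.1 (hpok j).1.2 h1
      have e2 := latOf_injOn (hpok i).1.2 (hpok j).1.1 h2
      have a1 := (hpok i).2
      have a2 := (hpok j).2
      rw [e1, e2] at a1
      omega
  · intro x hx
    obtain ⟨i, rfl⟩ := List.mem_ofFn.1 hx
    refine hH _ fun v hv y hy => Subtype.ext ?_
    rw [hg i v y hy, listEq_eq (List.all_eq_true.1 (hWi i).2 v hv), hy]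
  · refine ⟨by rw [List.length_ofFn, hlen], fun i x p hx hp j => ?_⟩
    obtain ⟨hi, rfl⟩ := List.getElem?_eq_some_iff.1 hx
    rw [List.length_ofFn] at hi
    have := List.all_eq_true.1 (List.all_eq_true.1 hact i (List.mem_range.2 hi)) j
      (List.mem_range.2 j.isLt)
    obtain ⟨hiS, hp'⟩ := List.getElem?_eq_some_iff.1 hp
    rw [forceNat_eq, List.getD_eq_getElem _ _ hiS, hp', List.getD_eq_getElem _ _ hi] at this
    simp only [Bool.and_eq_true, Bool.or_eq_true] at this
    obtain ⟨hlt, heq⟩ := this
    have hlt : getP b p.1 j < L.length := by simpa [Nat.blt_eq] using hlt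
    refine ⟨hlt, ?_⟩
    have key : ∀ {u v : List ℤ}, pointOK u = true → pointOK v = true →
        listEq (evalWord W[i] u) v = true → g ⟨i, hi⟩ • latOf u = latOf v := by
      intro u v hu hv he
      refine Subtype.ext ?_
      rw [coe_latOf (v := v) (Bool.and_eq_true_iff.1 hv).2,
        hg ⟨i, hi⟩ _ _ (coe_latOf (Bool.and_eq_true_iff.1 hu).2)]
      exact congrArg vecOf (listEq_eq he)
    rw [List.getElem_ofFn]
    show g ⟨i, hi⟩ • ({_, _} : Set leechLattice) = {_, _}
    rw [Set.smul_set_insert, Set.smul_set_singleton]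
    rcases heq with ⟨e1, e2⟩ | ⟨e1, e2⟩
    · rw [key (hpok j).1.1 (hpok ⟨_, hlt⟩).1.1 e1, key (hpok j).1.2 (hpok ⟨_, hlt⟩).1.2 e2]
    · rw [key (hpok j).1.1 (hpok ⟨_, hlt⟩).1.2 e1, key (hpok j).1.2 (hpok ⟨_, hlt⟩).1.1 e2,
        Set.pair_comm]

end Cfsg.Agent.Lib.Compute.Leech
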