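import Cfsg.Agent.Lib.Compute.Leech.SchurCo3P2
import Cfsg.Agent.Lib.Compute.Leech.SchurCo3P3
import Cfsg.Agent.Lib.Compute.Leech.SchurCo3P5
import Cfsg.Agent.Lib.Leech.SporConway

/-! The Schur multiplier of `Spor.Co3` is trivial. -/

set_option autoImplicit false

namespace Cfsg.Agent.Lib.Compute.Leech

open Cfsg
open Cfsg.Agent.Lib.Compute.Schur

theorem gensOK_co3 : GensOK (permCoding 12 (Equiv.refl (Fin 276)) (by norm_num)) co3Gens :=
  gensOK_literal _ _ (by decide +kernel)

theorem vecOf_co3 : vecOf (co3Fixed.getD 0 []) = Spor.vecV := by decide +kernel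

theorem exists_equiv_co3 :
    Nonempty (↥Spor.Co3 ≃* genGroup (permCoding 12 (Equiv.refl (Fin 276)) (by norm_num)) co3Gens) := by
  haveI := Lib.Leech.finite_co0
  obtain ⟨e⟩ := mulEquiv_of_pairs (b := 12) (show 276 ≤ 2 ^ 12 by norm_num)
    (MulAction.stabilizer Co0 Spor.leechV) co3Pts co3Pts_length co3Fixed co3Words co3Gens
    (fun g hg => hg _ (List.mem_cons_self ..) _ vecOf_co3.symm)
    gensOK_co3 co3Pts_ok co3Keys_ok co3Words_ok (by decide +kernel) co3Acts_ok
    (by rw [← Nat.card_congr Lib.Leech.co3Equiv.toEquiv, Lib.Leech.card_Co3,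
      card_genGroup _ gensOK_co3 co3Chain_ok, co3Chain_size])
  exact ⟨Lib.Leech.co3Equiv.trans e⟩

theorem schur_Co3 : Cfsg.HasCyclicSchurMultiplier ↥Spor.Co3 1 := by
  obtain ⟨e⟩ := exists_equiv_co3
  refine Cfsg.Agent.Lib.Schur.hasSchurMultiplier_congr ?_ e.symm (MulEquiv.refl _)
  refine hasCyclicSchurMultiplier_one _ gensOK_co3 co3Chain_ok co3Chain_size
    [co3Schur2, co3Schur3, co3Schur5] ?_ ?_
    (rest_of_factors [2, 3, 5, 7, 11, 23] (by norm_num) ?_ (by decide +kernel))
  · rintro A hA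
    simp only [List.mem_cons, List.not_mem_nil, or_false] at hA
    rcases hA with rfl | rfl | rfl
    · exact ⟨Nat.prime_two, co3Schur2_ok⟩
    · exact ⟨Nat.prime_three, co3Schur3_ok⟩
    · exact ⟨show Nat.Prime 5 by norm_num, co3Schur5_ok⟩
  · rintro A hA
    simp only [List.mem_cons, List.not_mem_nil, or_false] at hA
    rcases hA with rfl | rfl | rfl <;> rfl
  · intro q hq
    fin_cases hq <;> norm_num

end Cfsg.Agent.Lib.Compute.Leech
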