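import Cfsg.Agent.Lib.Compute.Leech.AutHS
import Cfsg.Agent.Lib.Compute.Leech.AutMcL
import Cfsg.Agent.Lib.Leech.SporConway

/-!
# Outer automorphism groups of `Spor.HS` and `Spor.McL`

Each group is identified with a certified permutation group (degree 100 resp. 275) on lattice vectors.
-/

set_option autoImplicit false

namespace Cfsg.Agent.Lib.Compute.Leech

open Cfsg

theorem card_out_of_image {b n : ℕ} (hb : n ≤ 2 ^ b) {G : Type*} [Group G] (H : Subgroup Co0)
    (eG : G ≃* H) {N : ℕ} (hN : Nat.card G = N) (L : List (List ℤ)) (hn : L.length = n)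
    (fixed : List (List ℤ)) (W : List (List Letter)) (S : List (ℕ × ℕ))
    (hH : ∀ g : Co0, (∀ v ∈ fixed, ∀ y : leechLattice, (y : GolayPt → ℤ) = vecOf v → g • y = y) →
      g ∈ H)
    (hSlit : (S.all fun p => permCheck b n p.1 p.2 && Nat.beq (packP b (getP b p.1) n) p.1 &&
      Nat.beq (packP b (getP b p.2) n) p.2) = true)
    (hpt : L.all pointOK = true)
    (hkey : increasing ((List.range n).map fun i => keyOf (L.getD i [])) = true)
    (hW : (W.all fun w => w.all letterOK && fixesAll w fixed) = true)
    (hlen : W.length = S.length)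
    (hact : ((List.range W.length).all fun i => actsVec b L (W.getD i []) (S.getD i (0, 0)).1) = true)
    {C : List Lvl} (hC : chainCheck (permOps b n) S C = true) (hsize : chainSize C = N)
    {A : AutCert} {t : Tri}
    (hA : autCheck (permOps b n) S C A [A.base, t] = true)
    (ht : outerCheck (permOps b n) A t = true) {m : ℕ × ℕ}
    (hm : (([m] : List (ℕ × ℕ)).all fun p => permCheck b n p.1 p.2 &&
      Nat.beq (packP b (getP b p.1) n) p.1 && Nat.beq (packP b (getP b p.2) n) p.2) = true)
    (hnorm : normCheck (permOps b n) S C m = true)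
    (himg : ((Nat.beq (conjC (permOps b n) m A.base.a) t.a &&
      Nat.beq (conjC (permOps b n) m A.base.b) t.b) &&
      Nat.beq (conjC (permOps b n) m A.base.c) t.c) = true) :
    Nat.card (Cfsg.Out G) = 2 := by
  have hS : GensOK (permCoding b (Equiv.refl (Fin n)) hb) S := gensOK_literal _ hb hSlit
  haveI : Finite H := by
    haveI := Lib.Leech.finite_co0
    infer_instance
  obtain ⟨e⟩ := mulEquiv_of_vectors hb H L hn fixed W S hH hS hpt hkey hW hlen hact (by
    rw [← Nat.card_congr eG.toEquiv, hN, card_genGroup _ hS hC, hsize])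
  rw [card_out_congr (eG.trans e)]
  exact card_out_eq_two_of_normalizer _ hS hC hA ht
    (gensOK_literal _ hb hm m (List.mem_singleton_self m)) hnorm himg

theorem vecOf_hs : vecOf (hsFixed.getD 0 []) = Spor.vecV ∧ vecOf (hsFixed.getD 1 []) = Spor.vecU' := by
  decide +kernel

theorem vecOf_mcL :
    vecOf (mcLFixed.getD 0 []) = Spor.vecV ∧ vecOf (mcLFixed.getD 1 []) = Spor.vecU := by
  decide +kernel

theorem card_out_HS : Nat.card (Cfsg.Out ↥Spor.HS) = 2 :=
  card_out_of_image (b := 8) (n := 100) (by norm_num) _ Lib.Leech.hsEquiv Lib.Leech.card_HS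
    hsPts hsPts_length hsFixed hsWords hsGens
    (fun g hg => ⟨hg _ (List.mem_cons_self ..) _ vecOf_hs.1.symm,
      hg _ (List.mem_cons_of_mem _ (List.mem_cons_self ..)) _ vecOf_hs.2.symm⟩)
    (by decide +kernel) hsPts_ok hsKeys_ok hsWords_ok (by decide +kernel) hsActs_ok
    hsChain_ok hsChain_size hsAut_ok hsTri_outer (m := hsOuter) (by decide +kernel)
    (by decide +kernel) (by decide +kernel)

theorem card_out_McL : Nat.card (Cfsg.Out ↥Spor.McL) = 2 :=
  card_out_of_image (b := 12) (n := 275) (by norm_num) _ Lib.Leech.mclEquiv Lib.Leech.card_McL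
    mcLPts mcLPts_length mcLFixed mcLWords mcLGens
    (fun g hg => ⟨hg _ (List.mem_cons_self ..) _ vecOf_mcL.1.symm,
      hg _ (List.mem_cons_of_mem _ (List.mem_cons_self ..)) _ vecOf_mcL.2.symm⟩)
    (by decide +kernel) mcLPts_ok mcLKeys_ok mcLWords_ok (by decide +kernel) mcLActs_ok
    mcLChain_ok mcLChain_size mcLAut_ok mcLTri_outer (m := mcLOuter) (by decide +kernel)
    (by decide +kernel) (by decide +kernel)

end Cfsg.Agent.Lib.Compute.Leech
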