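import Cfsg.Agent.Lib.Compute.Leech.SchurHS
import Cfsg.Agent.Lib.Compute.Leech.CoverCommHS
import Cfsg.Agent.Lib.Compute.Leech.Outer
import Cfsg.Agent.Lib.Compute.Schur.BlockCover

/-! The Schur multiplier of `Spor.HS` is cyclic of order two. -/

set_option autoImplicit false

namespace Cfsg.Agent.Lib.Compute.Leech

open Cfsg
open Cfsg.Agent.Lib.Compute.Schur

theorem gensOK_hs : GensOK (permCoding 8 (Equiv.refl (Fin 100)) (by norm_num)) hsGens :=
  gensOK_literal _ _ (by decide +kernel)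

theorem exists_equiv_hs :
    Nonempty (↥Spor.HS ≃* genGroup (permCoding 8 (Equiv.refl (Fin 100)) (by norm_num)) hsGens) := by
  haveI := Lib.Leech.finite_co0
  obtain ⟨e⟩ := mulEquiv_of_vectors (b := 8) (show 100 ≤ 2 ^ 8 by norm_num)
    (MulAction.stabilizer Co0 Spor.leechV ⊓ MulAction.stabilizer Co0 Spor.leechU')
    hsPts hsPts_length hsFixed hsWords hsGens
    (fun g hg => ⟨hg _ (List.mem_cons_self ..) _ vecOf_hs.1.symm,
      hg _ (List.mem_cons_of_mem _ (List.mem_cons_self ..)) _ vecOf_hs.2.symm⟩)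
    gensOK_hs hsPts_ok hsKeys_ok hsWords_ok (by decide +kernel) hsActs_ok
    (by rw [← Nat.card_congr Lib.Leech.hsEquiv.toEquiv, Lib.Leech.card_HS,
      card_genGroup _ gensOK_hs hsChain_ok, hsChain_size])
  exact ⟨Lib.Leech.hsEquiv.trans e⟩

theorem schur_HS : Cfsg.HasCyclicSchurMultiplier ↥Spor.HS 2 := by
  obtain ⟨e⟩ := exists_equiv_hs
  refine Cfsg.Agent.Lib.Schur.hasSchurMultiplier_congr ?_ e.symm (MulEquiv.refl _)
  have hX : GensOK (permCoding 12 (Equiv.refl (Fin 804)) (by norm_num)) hsCoverGens :=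
    gensOK_literal _ _ (by decide +kernel)
  have hperf := commutator_eq_top (permCoding 12 (Equiv.refl (Fin 804)) (by norm_num)) hX
    hsCoverChain_ok (Ps := hsCoverCommPaths) (K := hsCoverCommGens) (by decide +kernel)
    hsCoverComm_ok (hsCoverComm_size.trans hsCoverChain_size.symm)
  obtain ⟨τ, hτ, hcard, hcyc⟩ : ∃ τ : genGroup (permCoding 12 (Equiv.refl (Fin 804)) (by norm_num))
      hsCoverGens →* genGroup (permCoding 8 (Equiv.refl (Fin 100)) (by norm_num)) hsGens,
      Cfsg.IsStemExtension τ ∧ Nat.card τ.ker = 2 ∧ IsCyclic τ.ker :=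
    exists_block_cover (Equiv.refl (Fin 100)) (n := 804) (w := 12) (v := 8) (o := 704)
      (by norm_num) (by norm_num) (by norm_num) hX gensOK_hs (by decide +kernel) hsCoverChain_ok
      hsChain_ok (by rw [hsCoverChain_size, hsChain_size]) hperf
  haveI := hcyc
  refine hasCyclicSchurMultiplier_of_cover _ gensOK_hs hsChain_ok hsChain_size
    [hsSchur2, hsSchur3, hsSchur5] ?_ ?_
    (rest_of_factors [2, 3, 5, 7, 11] (by norm_num) ?_ (by decide +kernel)) τ hτ hcard
  · rintro A hA
    simp only [List.mem_cons, List.not_mem_nil, or_false] at hA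
    rcases hA with rfl | rfl | rfl
    · exact ⟨Nat.prime_two, hsSchur2_ok⟩
    · exact ⟨Nat.prime_three, hsSchur3_ok⟩
    · exact ⟨show Nat.Prime 5 by norm_num, hsSchur5_ok⟩
  · rintro A hA
    simp only [List.mem_cons, List.not_mem_nil, or_false] at hA
    rcases hA with rfl | rfl | rfl <;> decide
  · intro q hq
    fin_cases hq <;> norm_num

end Cfsg.Agent.Lib.Compute.Leech
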