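import Cfsg.Agent.Lib.Compute.Leech.SchurMcL
import Cfsg.Agent.Lib.Compute.Leech.TransferMcL
import Cfsg.Agent.Lib.Compute.Leech.Outer

/-! The Schur multiplier of `Spor.McL` is cyclic of order three. -/

set_option autoImplicit false

namespace Cfsg.Agent.Lib.Compute.Leech

open Cfsg
open Cfsg.Agent.Lib.Compute.Schur

theorem gensOK_mcL : GensOK (permCoding 12 (Equiv.refl (Fin 275)) (by norm_num)) mcLGens :=
  gensOK_literal _ _ (by decide +kernel)

theorem exists_equiv_mcL :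
    Nonempty (↥Spor.McL ≃* genGroup (permCoding 12 (Equiv.refl (Fin 275)) (by norm_num)) mcLGens) := by
  haveI := Lib.Leech.finite_co0
  obtain ⟨e⟩ := mulEquiv_of_vectors (b := 12) (show 275 ≤ 2 ^ 12 by norm_num)
    (MulAction.stabilizer Co0 Spor.leechV ⊓ MulAction.stabilizer Co0 Spor.leechU)
    mcLPts mcLPts_length mcLFixed mcLWords mcLGens
    (fun g hg => ⟨hg _ (List.mem_cons_self ..) _ vecOf_mcL.1.symm,
      hg _ (List.mem_cons_of_mem _ (List.mem_cons_self ..)) _ vecOf_mcL.2.symm⟩)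
    gensOK_mcL mcLPts_ok mcLKeys_ok mcLWords_ok (by decide +kernel) mcLActs_ok
    (by rw [← Nat.card_congr Lib.Leech.mclEquiv.toEquiv, Lib.Leech.card_McL,
      card_genGroup _ gensOK_mcL mcLChain_ok, mcLChain_size])
  exact ⟨Lib.Leech.mclEquiv.trans e⟩

theorem schur_McL : Cfsg.HasCyclicSchurMultiplier ↥Spor.McL 3 := by
  obtain ⟨e⟩ := exists_equiv_mcL
  refine Cfsg.Agent.Lib.Schur.hasSchurMultiplier_congr ?_ e.symm (MulEquiv.refl _)
  haveI := Fact.mk Nat.prime_three
  obtain ⟨l, ls, hlls, hl⟩ : ∃ l ls, mcLChain = l :: ls ∧ l.orb = mcLChainOrb0 := ⟨_, _, rfl, rfl⟩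
  have hL : chainCheck (permOps 12 275) mcLGens (l :: ls) = true := hlls ▸ mcLChain_ok
  have hb : l.b < 275 := by
    have h : ((mcLChain.head?.map Lvl.b).getD 275) < 275 := by decide +kernel
    rw [hlls] at h
    exact h
  have hproj := mcLStabCoverProj_ok
  rw [hlls] at hproj
  have hsize := mcLStabCoverChain_size
  rw [hlls] at hsize
  have ha := mcLTransA_ok
  rw [hlls] at ha
  have hb' := mcLTransB_ok
  rw [hlls] at hb'
  have hfa := mcLTransFA_ok
  rw [← hl] at hfa
  have hfb := mcLTransFB_ok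
  rw [← hl] at hfb
  obtain ⟨E, _, _, π, hπ, hcard, hcyc⟩ := Transfer.exists_transfer_of_check (p := 3) (d := 162) (w := 9)
    (show 275 ≤ 2 ^ 9 by norm_num) (show 3 * 162 ≤ 2 ^ 9 by norm_num) (show 275 ≤ 2 ^ 12 by norm_num)
    gensOK_mcL hL (hl ▸ mcLTransitive) hb
    (Monomial.gensOK_monomial (Equiv.refl (Fin 275)) _ _ mcLStabCoverGens_ok) hproj mcLStabCoverChain_ok
    hsize mcLStabCoverKer_ok ha hb' hfa hfb mcLTransfer_ok
  haveI := hcyc
  refine hasCyclicSchurMultiplier_of_cover _ gensOK_mcL mcLChain_ok mcLChain_size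
    [mcLSchur2, mcLSchur3, mcLSchur5] ?_ ?_
    (rest_of_factors [2, 3, 5, 7, 11] (by norm_num) ?_ (by decide +kernel)) π hπ hcard
  · rintro A hA
    simp only [List.mem_cons, List.not_mem_nil, or_false] at hA
    rcases hA with rfl | rfl | rfl
    · exact ⟨Nat.prime_two, mcLSchur2_ok⟩
    · exact ⟨Nat.prime_three, mcLSchur3_ok⟩
    · exact ⟨show Nat.Prime 5 by norm_num, mcLSchur5_ok⟩
  · rintro A hA
    simp only [List.mem_cons, List.not_mem_nil, or_false] at hA
    rcases hA with rfl | rfl | rfl <;> decide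
  · intro q hq
    fin_cases hq <;> norm_num

end Cfsg.Agent.Lib.Compute.Leech
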