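import Cfsg.Agent.Lib.Compute.ActionImage
import Cfsg.Agent.Lib.Compute.Mathieu.Groups
import Cfsg.Agent.Lib.Golay.Simple
import Cfsg.Agent.Lib.Leech.Order

/-!
# Words in `monoCo` and `xiCo`, evaluated on coordinate lists

A lattice vector is a list of 24 coordinates (position `i < 23` the residue `i`, position 23 the extra
point). A letter is either `xiCo` or a monomial element given by the code of a permutation, the code of
its inverse, and the parameter of a code word.
-/

set_option autoImplicit false

namespace Cfsg.Agent.Lib.Compute.Leech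

open Cfsg

/-- A letter: `isXi`, or a monomial element (permutation code, inverse code, code word parameter). -/
structure Letter where
  isXi : Bool
  c : ℕ
  d : ℕ
  x : ℕ

/-- The tetrad of each position, in six groups of four. -/
def tetList : List ℕ :=
  [0, 0, 0, 1, 5, 1, 4, 4, 2, 3, 3, 2, 2, 5, 1, 3, 5, 1, 2, 4, 3, 4, 5, 0]

/-- The six tetrads. -/
def tetGroups : List (List ℕ) :=
  [[0, 1, 2, 23], [3, 5, 14, 17], [8, 11, 12, 18], [9, 10, 15, 20], [6, 7, 19, 21], [4, 13, 16, 22]]

theorem tetGroups_eq : ∀ k : Fin 6, tetGroups.getD k [] =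
    (List.range 24).filter fun j => Nat.beq (tetList.getD j 0) k := by
  decide +kernel

/-- Coordinate `i` after applying a letter. -/
noncomputable def coordStep (l : Letter) (v : List ℤ) (i : ℕ) : ℤ :=
  bif l.isXi then
    let s : ℤ := ((tetGroups.getD (tetList.getD i 0) []).map fun j => v.getD j 0).sum
    bif Nat.beq (tetList.getD i 0) 0 then s / 2 - v.getD i 0 else v.getD i 0 - s / 2
  else
    bif (Golay.encode l.x).testBit i then -(v.getD (getP 8 l.d i) 0) else v.getD (getP 8 l.d i) 0

/-- Apply a letter. -/
noncomputable def step (l : Letter) (v : List ℤ) : List ℤ := (List.range 24).map (coordStep l v)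

/-- Apply a word, last letter first. -/
noncomputable def evalWord : List Letter → List ℤ → List ℤ
  | [], v => v
  | l :: w, v => step l (evalWord w v)

/-- The letter is valid. -/
noncomputable def letterOK (l : Letter) : Bool :=
  l.isXi || pairCheck 8 24 Mathieu.m24Chain (l.c, l.d)

/-- The vector of a coordinate list. -/
def vecOf (v : List ℤ) : GolayPt → ℤ := fun p => v.getD (Mathieu.ptEquiv p) 0

/-- The coordinate list of a vector. -/
def tabOf (x : GolayPt → ℤ) : List ℤ :=
  (List.range 24).map fun i => if h : i < 24 then x (Mathieu.ptEquiv.symm ⟨i, h⟩) else 0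

theorem getD_map_range {α : Type*} (f : ℕ → α) (d : α) {n i : ℕ} (h : i < n) :
    ((List.range n).map f).getD i d = f i := by
  rw [List.getD_eq_getElem _ _ (by simpa using h)]
  simp

theorem vecOf_step (l : Letter) (v : List ℤ) (p : GolayPt) :
    vecOf (step l v) p = coordStep l v (Mathieu.ptEquiv p) :=
  getD_map_range _ _ (Mathieu.ptEquiv p).isLt

theorem tetList_eq : ∀ p : GolayPt, tetList.getD (Mathieu.ptEquiv p) 0 = (Lib.Leech.tetId p).val := by
  decide +kernel

theorem xi_coord (v : List ℤ) (p : GolayPt) :
    Lib.Leech.xiMap (vecOf v) p = coordStep ⟨true, 0, 0, 0⟩ v (Mathieu.ptEquiv p) := by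
  simp only [coordStep, cond_true, Lib.Leech.xiMap, Lib.Leech.tetSum, tetList_eq, tetGroups_eq]
  have hsum : (∑ j, if Lib.Leech.tetId j = Lib.Leech.tetId p then vecOf v j else 0) =
      (((List.range 24).filter fun j => Nat.beq (tetList.getD j 0) (Lib.Leech.tetId p).val).map
        fun j => v.getD j 0).sum := by
    have hf : ∀ (l : List ℕ) (q : ℕ → Bool) (f : ℕ → ℤ),
        ((l.filter q).map f).sum = (l.map fun j => if q j then f j else 0).sum := by
      intro l q f
      induction l with
      | nil => rfl
      | cons a l ih => cases h : q a <;> simp [h, ih]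
    rw [hf, ← Equiv.sum_comp Mathieu.ptEquiv.symm, ← List.sum_toFinset _ List.nodup_range,
      List.toFinset_range, ← Fin.sum_univ_eq_sum_range
        (fun j : ℕ => if Nat.beq (tetList.getD j 0) (Lib.Leech.tetId p).val then v.getD j 0 else 0)]
    refine Finset.sum_congr rfl fun i _ => ?_
    have := tetList_eq (Mathieu.ptEquiv.symm i)
    rw [Equiv.apply_symm_apply] at this
    rw [this]
    simp only [vecOf, Equiv.apply_symm_apply]
    by_cases hh : Lib.Leech.tetId (Mathieu.ptEquiv.symm i) = Lib.Leech.tetId p
    · simp [hh]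
    · simp [hh, Fin.val_inj]
  rw [hsum]
  by_cases h0 : Lib.Leech.tetId p = 0
  · rw [if_pos h0, h0]
    simp [vecOf]
  · rw [if_neg h0, show Nat.beq (Lib.Leech.tetId p).val 0 = false from
      Bool.eq_false_iff.2 fun hb => h0 (Fin.ext (Nat.eq_of_beq_eq_true hb))]
    simp [vecOf]

theorem vecOf_tabOf (x : GolayPt → ℤ) : vecOf (tabOf x) = x := by
  funext p
  simp only [vecOf, tabOf]
  rw [getD_map_range _ _ (Mathieu.ptEquiv p).isLt]
  simp

theorem exists_of_letterOK {l : Letter} (h : letterOK l = true) :
    ∃ g : Co0, ∀ (v : List ℤ) (y : leechLattice), (y : GolayPt → ℤ) = vecOf v →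
      ((g • y : leechLattice) : GolayPt → ℤ) = vecOf (step l v) := by
  obtain ⟨isXi, c, d, x⟩ := l
  cases isXi with
  | true =>
    refine ⟨Lib.Leech.xiCo, fun v y hy => funext fun p => ?_⟩
    rw [vecOf_step, Lib.Leech.xiCo_smul, hy, xi_coord]
    rfl
  | false =>
    simp only [letterOK, Bool.false_or] at h
    obtain ⟨hok, hle⟩ := Mathieu.gensOK_of_check (S := [(c, d)]) (by simp [h])
    obtain ⟨σ, -, h1, h2⟩ := hok (c, d) (by simp)
    simp only at h2
    have hσ : σ ∈ Cfsg.M24 := Golay.genM24_eq_M24 ▸ hle (mem_genGroup_of_enc _ (by simp) h1)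
    have hw : Golay.word (Golay.ptsOf (Golay.encode x)) ∈ Cfsg.golayCode := Golay.encode_isCodeSet x
    refine ⟨Lib.Leech.monoCo σ hσ _ hw, fun v y hy => funext fun p => ?_⟩
    rw [vecOf_step, Lib.Leech.monoCo_smul, hy, Golay.support₂_word]
    have hd : getP 8 d (Mathieu.ptEquiv p) = Mathieu.ptEquiv (σ.symm p) := by
      rw [← h2, Mathieu.ptCoding, permCoding_enc,
        getP_encP (by norm_num) _ _ (Mathieu.ptEquiv p).isLt]
      simp [imgP, Equiv.Perm.inv_def]
    simp only [signedPerm, coordStep, cond_false, hd, vecOf, Golay.mem_ptsOf]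
    have hidx : (Golay.idx p).val = (Mathieu.ptEquiv p).val := (Golay.idx_eq_ptEquiv p).symm
    rw [hidx]
    cases (Golay.encode x).testBit (Mathieu.ptEquiv p).val <;> simp

theorem exists_of_wordOK : ∀ {w : List Letter}, w.all letterOK = true →
    ∃ g : Co0, ∀ (v : List ℤ) (y : leechLattice), (y : GolayPt → ℤ) = vecOf v →
      ((g • y : leechLattice) : GolayPt → ℤ) = vecOf (evalWord w v) := by
  intro w
  induction w with
  | nil => intro _; exact ⟨1, fun v y hy => by rw [one_smul]; exact hy⟩
  | cons l w ih =>
    intro h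
    simp only [List.all_cons, Bool.and_eq_true] at h
    obtain ⟨g, hg⟩ := ih h.2
    obtain ⟨k, hk⟩ := exists_of_letterOK h.1
    exact ⟨k * g, fun v y hy => by rw [mul_smul]; exact hk _ _ (hg v y hy)⟩

/-- Equality of coordinate lists. -/
def listEq : List ℤ → List ℤ → Bool
  | [], [] => true
  | [], _ :: _ => false
  | _ :: _, [] => false
  | a :: as, b :: bs => decide (a = b) && listEq as bs

theorem listEq_eq : ∀ {l m : List ℤ}, listEq l m = true → l = m := by
  intro l
  induction l with
  | nil => intro m h; cases m <;> simp_all [listEq]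
  | cons a as ih =>
    intro m h
    cases m with
    | nil => simp [listEq] at h
    | cons b bs =>
      simp only [listEq, Bool.and_eq_true, decide_eq_true_eq] at h
      rw [h.1, ih h.2]

theorem vecOf_injective {u v : List ℤ} (hu : u.length = 24) (hv : v.length = 24)
    (h : vecOf u = vecOf v) : u = v := by
  refine List.ext_getElem (hu.trans hv.symm) fun i hi hi' => ?_
  have := congrFun h (Mathieu.ptEquiv.symm ⟨i, hu ▸ hi⟩)
  simp only [vecOf, Equiv.apply_symm_apply] at this
  rwa [List.getD_eq_getElem _ _ hi, List.getD_eq_getElem _ _ hi'] at this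

end Cfsg.Agent.Lib.Compute.Leech
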